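import Cfsg.Agent.H250.P1.Alpha
import Cfsg.Agent.H282.P1.Gen
import Cfsg.Agent.H537.P1.Delta
import Cfsg.Agent.H736.P1.One

/-!
# The `P!`-theorem (S3046), Case A
-/

set_option autoImplicit false

open Cfsg Subgroup
open Cfsg.Agent.H230 Cfsg.Agent.H229 Cfsg.Agent.H247.P1

namespace Cfsg.Agent.H250.P1

universe u

variable {H : Type u} [Group H] {p : ℕ} {S : Sylow p H} {Z C Q P : Subgroup H} [Finite H] [Fact p.Prime]

/-- **Case A**: `Y_P` is a natural `SL₂(F)`-module for `P* = ⟨Q^P⟩ O_p(P)` and `Ω₁(Z(S ∩ P*))` is normal in `C`. -/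
theorem caseA (h : PHyp p S Z C Q P) (hVQ : largestPReducedOf p P ≤ Q)
    (hex : ∃ c ∈ C, ⁅largestPReducedOf p P, cj c (largestPReducedOf p P)⁆ ≠ ⊥)
    {Pstar : Subgroup H} (hPs : Pstar = ncl P Q ⊔ pCoreOf p P) :
    ∃ (F : Type) (_ : Field F) (_ : Fintype F), CharP F p ∧ IsNaturalSL2Module F (largestPReducedOf p P) Pstar ∧
      omegaOne p (((S : Subgroup H) ⊓ Pstar) ⊓ centralizer (((S : Subgroup H) ⊓ Pstar : Subgroup H) : Set H)) ≤ C ∧
      C ≤ normalizer ((omegaOne p (((S : Subgroup H) ⊓ Pstar) ⊓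
        centralizer (((S : Subgroup H) ⊓ Pstar : Subgroup H) : Set H)) : Subgroup H) : Set H) := by
  obtain ⟨r, E, W, J, R, F, iF, iFt, hA⟩ := exists_aStr h hVQ hex
  have hR := hA.R_norm
  have h1 : r = 1 := by
    rcases Nat.lt_or_ge 2 (Fintype.card F) with h2 | h2
    · exact H736.P1.one_of_gt hA hR h2
    · have h3 : 1 < Fintype.card F := Fintype.one_lt_card
      exact H537.P1.one_of_two hA (fun N => hA.gen) (by omega)
  obtain ⟨h4, h5⟩ := H736.P1.concl hA hR h1 hPs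
  refine ⟨F, iF, iFt, ?_, h4, ?_, ?_⟩
  · obtain ⟨n, hn, hc⟩ := hA.cardF
    obtain ⟨q, hq⟩ := CharP.exists F
    have hqp : q.Prime := (CharP.char_is_prime_or_zero F q).resolve_right (CharP.char_ne_zero_of_finite F q)
    obtain ⟨m, -, hm⟩ := FiniteField.card F q
    have h6 : q ∣ p ^ n := by rw [← hc, hm]; exact dvd_pow_self q m.2.ne'
    have h7 : q = p := (Nat.prime_dvd_prime_iff_eq hqp Fact.out).1 (hqp.dvd_of_dvd_pow h6)
    rwa [h7] at hq
  · rw [h5]
    have h6 := hA.norm_R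
    rw [← h6]
    exact le_normalizer
  · rw [h5]; exact hR

end Cfsg.Agent.H250.P1
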