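import Cfsg.Agent.H250.FFSym3

/-!
# The `P!`-theorem (S3046), Case A: the module form of the point condition

`X = P / C_P(V)` acts on `V = Y_P`, `T`, `Q`, `A` are the images of `S`, `Q`, `V^c`.
-/

set_option autoImplicit false
set_option linter.unusedSectionVars false

namespace Cfsg.Agent.H250.P1

open Subgroup Cfsg.Agent.H250.FFFam Cfsg.Agent.H250.FFStr

universe u

/-- the module form of the hypotheses in Case A -/
structure Pt (p : ℕ) (X V : Type u) [Group X] [Group V] [MulDistribMulAction X V] (T Q A : Subgroup X) {k : ℕ}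
    (E : Fin k → Subgroup X) : Prop where
  hV : ∀ v w : V, v * w = w * v
  hVp : ∀ v : V, v ^ p = 1
  hf : ∀ x : X, (∀ v : V, x • v = v) → x = 1
  hT : IsPGroup p ↥T
  hTi : ¬ p ∣ T.index
  str : Str p X V T E
  fx_bot : fx V (⨆ i, E i) = ⊥
  QT : Q ≤ T
  TQ : T ≤ normalizer (Q : Set X)
  Qn : ¬ Q.Normal
  pt : ∀ v : V, v ≠ 1 → (∀ q ∈ Q, q • v = v) → ∀ x : X, x • v = v → x ∈ normalizer (Q : Set X)
  AQ : A ≤ Q
  A_ne : A ≠ ⊥
  QA : Q ≤ normalizer (A : Set X)
  off : Off p X V A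

end Cfsg.Agent.H250.P1
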