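import Cfsg.Agent.H250.P1.Defs
import Cfsg.Agent.H250.P1.Pt

/-!
# The `P!`-theorem (S3046), Case A: the action of `P` on `V ⊴ P`

`XX P V = P / C_P(V) ≤ Aut(V)`, `im K` = image of `K ∩ P`, `pre L` = preimage of `L`.
-/

set_option autoImplicit false
set_option linter.unusedSectionVars false

open Cfsg Subgroup
open Cfsg.Agent.H230 Cfsg.Agent.H229 Cfsg.Agent.H247.P1
open Cfsg.Agent.H250.FFFam Cfsg.Agent.H250.FFStr
open scoped commutatorElement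

namespace Cfsg.Agent.H250.P1

universe u

variable {H : Type u} [Group H]

/-- the action of `P` on `V` -/
noncomputable def act {P V : Subgroup H} (hn : P ≤ normalizer (V : Set H)) : ↥P →* MulAut ↥V :=
  V.normalizerMonoidHom.comp (inclusion hn)

/-- `P / C_P(V)` -/
noncomputable abbrev XX {P V : Subgroup H} (hn : P ≤ normalizer (V : Set H)) : Subgroup (MulAut ↥V) := (act hn).range

/-- the projection -/
noncomputable def pr {P V : Subgroup H} (hn : P ≤ normalizer (V : Set H)) : ↥P →* ↥(XX hn) := (act hn).rangeRestrict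

/-- images -/
noncomputable def im {P V : Subgroup H} (hn : P ≤ normalizer (V : Set H)) (K : Subgroup H) : Subgroup ↥(XX hn) :=
  (K.subgroupOf P).map (pr hn)

/-- preimages -/
noncomputable def pre {P V : Subgroup H} (hn : P ≤ normalizer (V : Set H)) (L : Subgroup ↥(XX hn)) : Subgroup H :=
  (L.comap (pr hn)).map P.subtype

section

variable {P V : Subgroup H} (hn : P ≤ normalizer (V : Set H))

theorem pr_surj : Function.Surjective (pr hn) := (act hn).rangeRestrict_surjective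

theorem smul_pr (g : ↥P) (v : ↥V) : ((pr hn g • v : ↥V) : H) = (g : H) * v * (g : H)⁻¹ := rfl

theorem smul_eq_iff (g : ↥P) (v : ↥V) : pr hn g • v = v ↔ (g : H) * v = v * g := by
  rw [← Subtype.coe_inj, smul_pr, mul_inv_eq_iff_eq_mul]

theorem pr_eq_one {g : ↥P} : pr hn g = 1 ↔ (g : H) ∈ centralizer (V : Set H) := by
  rw [mem_centralizer_iff]
  constructor
  · intro h v hv
    have h1 : pr hn g • (⟨v, hv⟩ : ↥V) = ⟨v, hv⟩ := by rw [h, one_smul]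
    exact ((smul_eq_iff hn g _).1 h1).symm
  · intro h
    apply Subtype.ext
    ext v
    change ((pr hn g • v : ↥V) : H) = v
    rw [smul_pr, ← h v v.2, mul_inv_cancel_right]

theorem faith (x : ↥(XX hn)) (hx : ∀ v : ↥V, x • v = v) : x = 1 := by
  apply Subtype.ext
  ext v
  exact congrArg Subtype.val (hx v)

theorem mem_im {K : Subgroup H} {x : ↥(XX hn)} : x ∈ im hn K ↔ ∃ (g : H) (hg : g ∈ P), g ∈ K ∧ pr hn ⟨g, hg⟩ = x := by
  constructor
  · rintro ⟨g, hg, rfl⟩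
    exact ⟨g, g.2, hg, rfl⟩
  · rintro ⟨g, hg, hgK, rfl⟩
    exact ⟨⟨g, hg⟩, hgK, rfl⟩

theorem mem_pre {L : Subgroup ↥(XX hn)} {g : H} : g ∈ pre hn L ↔ ∃ hg : g ∈ P, pr hn ⟨g, hg⟩ ∈ L := by
  constructor
  · rintro ⟨g, hg, rfl⟩
    exact ⟨g.2, hg⟩
  · rintro ⟨hg, hgL⟩
    exact ⟨⟨g, hg⟩, hgL, rfl⟩

theorem im_mono {K K' : Subgroup H} (h : K ≤ K') : im hn K ≤ im hn K' := by
  intro x hx
  obtain ⟨g, hg, hgK, rfl⟩ := (mem_im hn).1 hx
  exact (mem_im hn).2 ⟨g, hg, h hgK, rfl⟩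

theorem pre_mono {L L' : Subgroup ↥(XX hn)} (h : L ≤ L') : pre hn L ≤ pre hn L' := by
  intro x hx
  obtain ⟨hg, hgL⟩ := (mem_pre hn).1 hx
  exact (mem_pre hn).2 ⟨hg, h hgL⟩

theorem pre_le (L : Subgroup ↥(XX hn)) : pre hn L ≤ P := fun _ hx => ((mem_pre hn).1 hx).1

theorem le_pre (L : Subgroup ↥(XX hn)) : P ⊓ centralizer (V : Set H) ≤ pre hn L := by
  rintro x ⟨hx, hx'⟩
  refine (mem_pre hn).2 ⟨hx, ?_⟩
  rw [(pr_eq_one hn (g := ⟨x, hx⟩)).2 hx']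
  exact one_mem _

theorem im_pre (L : Subgroup ↥(XX hn)) : im hn (pre hn L) = L := by
  ext x
  constructor
  · intro hx
    obtain ⟨g, hg, hgK, rfl⟩ := (mem_im hn).1 hx
    exact ((mem_pre hn).1 hgK).2
  · intro hx
    obtain ⟨g, rfl⟩ := pr_surj hn x
    exact (mem_im hn).2 ⟨g, g.2, (mem_pre hn).2 ⟨g.2, hx⟩, rfl⟩

theorem le_pre_im {K : Subgroup H} (hK : K ≤ P) : K ≤ pre hn (im hn K) := fun x hx =>
  (mem_pre hn).2 ⟨hK hx, (mem_im hn).2 ⟨x, hK hx, hx, rfl⟩⟩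

theorem pre_im {K : Subgroup H} (hK : K ≤ P) : pre hn (im hn K) = K ⊔ (P ⊓ centralizer (V : Set H)) := by
  apply le_antisymm
  · intro x hx
    obtain ⟨hg, hgL⟩ := (mem_pre hn).1 hx
    obtain ⟨g, hg', hgK, h⟩ := (mem_im hn).1 hgL
    have h1 : pr hn (⟨g, hg'⟩⁻¹ * ⟨x, hg⟩) = 1 := by rw [map_mul, map_inv, h, inv_mul_cancel]
    rw [pr_eq_one] at h1
    have h2 : x = g * (g⁻¹ * x) := by group
    rw [h2]
    exact mul_mem (mem_sup_left hgK) (mem_sup_right ⟨P.mul_mem (P.inv_mem hg') hg, h1⟩)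
  · exact sup_le (le_pre_im hn hK) (le_pre hn _)

theorem pre_im_of_le {K : Subgroup H} (hK : K ≤ P) (hC : P ⊓ centralizer (V : Set H) ≤ K) : pre hn (im hn K) = K := by
  rw [pre_im hn hK, sup_eq_left.2 hC]

theorem im_le_iff {K : Subgroup H} (hK : K ≤ P) {L : Subgroup ↥(XX hn)} : im hn K ≤ L ↔ K ≤ pre hn L :=
  ⟨fun h => (le_pre_im hn hK).trans (pre_mono hn h), fun h => by rw [← im_pre hn L]; exact im_mono hn h⟩

theorem pre_top : pre hn ⊤ = P := by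
  apply le_antisymm (pre_le hn _)
  intro x hx
  exact (mem_pre hn).2 ⟨hx, mem_top _⟩

theorem im_P : im hn P = ⊤ := by rw [← im_pre hn ⊤, pre_top]

theorem pre_inf (L L' : Subgroup ↥(XX hn)) : pre hn (L ⊓ L') = pre hn L ⊓ pre hn L' := by
  ext x
  rw [mem_inf, mem_pre, mem_pre, mem_pre]
  constructor
  · rintro ⟨h, h1, h2⟩
    exact ⟨⟨h, h1⟩, ⟨h, h2⟩⟩
  · rintro ⟨⟨h, h1⟩, ⟨_, h2⟩⟩
    exact ⟨h, h1, h2⟩

theorem im_iSup {ι : Sort*} (K : ι → Subgroup H) (hK : ∀ i, K i ≤ P) : im hn (⨆ i, K i) = ⨆ i, im hn (K i) := by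
  apply le_antisymm
  · rw [im_le_iff hn (iSup_le hK)]
    exact iSup_le fun i => (im_le_iff hn (hK i)).1 (le_iSup (fun i => im hn (K i)) i)
  · exact iSup_le fun i => im_mono hn (le_iSup K i)

theorem im_sup {K K' : Subgroup H} (hK : K ≤ P) (hK' : K' ≤ P) : im hn (K ⊔ K') = im hn K ⊔ im hn K' := by
  apply le_antisymm
  · rw [im_le_iff hn (sup_le hK hK')]
    exact sup_le ((im_le_iff hn hK).1 le_sup_left) ((im_le_iff hn hK').1 le_sup_right)
  · exact sup_le (im_mono hn le_sup_left) (im_mono hn le_sup_right)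

theorem pre_iSup {ι : Type*} [Nonempty ι] (L : ι → Subgroup ↥(XX hn)) : pre hn (⨆ i, L i) = ⨆ i, pre hn (L i) := by
  have h1 : P ⊓ centralizer (V : Set H) ≤ ⨆ i, pre hn (L i) :=
    (le_pre hn (L (Classical.arbitrary ι))).trans (le_iSup (fun i => pre hn (L i)) _)
  have h2 : (⨆ i, pre hn (L i)) ≤ P := iSup_le fun i => pre_le hn _
  rw [← pre_im_of_le hn h2 h1, im_iSup hn _ (fun i => pre_le hn _)]
  congr 1
  exact iSup_congr fun i => (im_pre hn _).symm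

theorem mem_fx_im {K : Subgroup H} (hK : K ≤ P) {v : ↥V} : v ∈ fx ↥V (im hn K) ↔ (v : H) ∈ centralizer (K : Set H) := by
  rw [mem_fx, mem_centralizer_iff]
  constructor
  · intro h x hx
    exact (smul_eq_iff hn ⟨x, hK hx⟩ v).1 (h _ ((mem_im hn).2 ⟨x, hK hx, hx, rfl⟩))
  · intro h x hx
    obtain ⟨g, hg, hgK, rfl⟩ := (mem_im hn).1 hx
    exact (smul_eq_iff hn ⟨g, hg⟩ v).2 (h g hgK)

theorem mem_fx_pre (L : Subgroup ↥(XX hn)) {v : ↥V} :
    v ∈ fx ↥V L ↔ (v : H) ∈ centralizer ((pre hn L : Subgroup H) : Set H) := by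
  rw [← mem_fx_im hn (pre_le hn L), im_pre]

theorem map_fx_im {K : Subgroup H} (hK : K ≤ P) :
    (fx ↥V (im hn K)).map V.subtype = V ⊓ centralizer (K : Set H) := by
  ext g
  constructor
  · rintro ⟨v, hv, rfl⟩
    exact ⟨v.2, (mem_fx_im hn hK).1 hv⟩
  · rintro ⟨h1, h2⟩
    exact ⟨⟨g, h1⟩, (mem_fx_im hn hK).2 h2, rfl⟩

theorem card_fx_im {K : Subgroup H} (hK : K ≤ P) :
    Nat.card (fx ↥V (im hn K)) = Nat.card ↥(V ⊓ centralizer (K : Set H)) := by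
  rw [← map_fx_im hn hK]
  exact Nat.card_congr ((fx ↥V (im hn K)).equivMapOfInjective _ V.subtype_injective).toEquiv

/-- `[V, E]` -/
theorem map_cm (L : Subgroup ↥(XX hn)) : (cm ↥V L).map V.subtype = ⁅V, pre hn L⁆ := by
  rw [commutator_comm]
  apply le_antisymm
  · unfold cm
    rw [MonoidHom.map_closure, closure_le]
    rintro _ ⟨_, ⟨x, hx, w, rfl⟩, rfl⟩
    obtain ⟨g, rfl⟩ := pr_surj hn x
    have h : ⁅(g : H), (w : H)⁆ ∈ ⁅pre hn L, V⁆ := commutator_mem_commutator ((mem_pre hn).2 ⟨g.2, hx⟩) w.2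
    exact h
  · rw [commutator_le]
    intro g hg w hw
    obtain ⟨hg, hgL⟩ := (mem_pre hn).1 hg
    exact ⟨_, mem_cm (V := ↥V) (x := pr hn ⟨g, hg⟩) hgL ⟨w, hw⟩, rfl⟩

theorem map_cm_im {K : Subgroup H} (hK : K ≤ P) : (cm ↥V (im hn K)).map V.subtype = ⁅V, K⁆ := by
  apply le_antisymm
  · unfold cm
    rw [MonoidHom.map_closure, closure_le]
    rintro _ ⟨_, ⟨x, hx, w, rfl⟩, rfl⟩
    obtain ⟨g, hg, hgK, rfl⟩ := (mem_im hn).1 hx
    rw [commutator_comm]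
    have h : ⁅(g : H), (w : H)⁆ ∈ ⁅K, V⁆ := commutator_mem_commutator hgK w.2
    exact h
  · rw [map_cm]
    exact commutator_mono le_rfl (le_pre_im hn hK)

theorem conj_pre {x : H} (hx : x ∈ P) (L : Subgroup ↥(XX hn)) :
    cj x (pre hn L) = pre hn (L.map (MulAut.conj (pr hn ⟨x, hx⟩)).toMonoidHom) := by
  ext g
  rw [mem_cj]
  constructor
  · intro h
    obtain ⟨hg, hgL⟩ := (mem_pre hn).1 h
    have hg' : g ∈ P := by
      have := P.mul_mem (P.mul_mem hx hg) (P.inv_mem hx)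
      rwa [show x * (x⁻¹ * g * x) * x⁻¹ = g by group] at this
    refine (mem_pre hn).2 ⟨hg', _, hgL, ?_⟩
    change pr hn ⟨x, hx⟩ * pr hn ⟨x⁻¹ * g * x, hg⟩ * (pr hn ⟨x, hx⟩)⁻¹ = _
    rw [← map_mul, ← map_inv, ← map_mul]
    congr 1
    apply Subtype.ext
    change x * (x⁻¹ * g * x) * x⁻¹ = g
    group
  · intro h
    obtain ⟨hg, y, hyL, hy⟩ := (mem_pre hn).1 h
    have hg' : x⁻¹ * g * x ∈ P := P.mul_mem (P.mul_mem (P.inv_mem hx) hg) hx
    refine (mem_pre hn).2 ⟨hg', ?_⟩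
    have e : pr hn ⟨x⁻¹ * g * x, hg'⟩ = (pr hn ⟨x, hx⟩)⁻¹ * pr hn ⟨g, hg⟩ * pr hn ⟨x, hx⟩ := by
      rw [← map_inv, ← map_mul, ← map_mul]; rfl
    rw [e, ← hy]
    change (pr hn ⟨x, hx⟩)⁻¹ * (pr hn ⟨x, hx⟩ * y * (pr hn ⟨x, hx⟩)⁻¹) * pr hn ⟨x, hx⟩ ∈ L
    rw [show (pr hn ⟨x, hx⟩)⁻¹ * (pr hn ⟨x, hx⟩ * y * (pr hn ⟨x, hx⟩)⁻¹) * pr hn ⟨x, hx⟩ = y by group]
    exact hyL

theorem norm_im {x : H} (hx : x ∈ P) {K : Subgroup H} (h : x ∈ normalizer (K : Set H)) :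
    pr hn ⟨x, hx⟩ ∈ normalizer ((im hn K : Subgroup ↥(XX hn)) : Set ↥(XX hn)) := by
  have key : ∀ (x : H) (hx : x ∈ P), x ∈ normalizer (K : Set H) → ∀ y ∈ im hn K,
      pr hn ⟨x, hx⟩ * y * (pr hn ⟨x, hx⟩)⁻¹ ∈ im hn K := by
    intro x hx h y hy
    obtain ⟨g, hg, hgK, rfl⟩ := (mem_im hn).1 hy
    rw [← map_mul, ← map_inv, ← map_mul]
    exact (mem_im hn).2 ⟨x * g * x⁻¹, P.mul_mem (P.mul_mem hx hg) (P.inv_mem hx), (mem_normalizer_iff.1 h g).1 hgK, rfl⟩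
  rw [mem_normalizer_iff]
  intro y
  constructor
  · exact key x hx h y
  · intro hy
    have h1 := key x⁻¹ (P.inv_mem hx) (inv_mem h) _ hy
    have e : pr hn ⟨x⁻¹, P.inv_mem hx⟩ = (pr hn ⟨x, hx⟩)⁻¹ := by rw [← map_inv]; rfl
    rw [e] at h1
    rwa [show (pr hn ⟨x, hx⟩)⁻¹ * (pr hn ⟨x, hx⟩ * y * (pr hn ⟨x, hx⟩)⁻¹) * (pr hn ⟨x, hx⟩)⁻¹⁻¹ = y by group] at h1

theorem pre_normal {L : Subgroup ↥(XX hn)} (hL : L.Normal) : P ≤ normalizer ((pre hn L : Subgroup H) : Set H) := by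
  intro x hx
  rw [mem_norm, conj_pre hn hx]
  congr 1
  apply map_conj_eq_iff_mem_normalizer.2
  rw [normalizer_eq_top_iff.2 hL]
  exact mem_top _

theorem im_eq_bot {K : Subgroup H} (hK : K ≤ P) : im hn K = ⊥ ↔ ⁅V, K⁆ = ⊥ := by
  rw [eq_bot_iff, im_le_iff hn hK]
  have h1 : pre hn ⊥ = P ⊓ centralizer (V : Set H) := by
    ext x
    rw [mem_pre, mem_inf]
    constructor
    · rintro ⟨h, h'⟩
      exact ⟨h, (pr_eq_one hn).1 (mem_bot.1 h')⟩
    · rintro ⟨h, h'⟩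
      exact ⟨h, mem_bot.2 ((pr_eq_one hn).2 h')⟩
  rw [h1, commutator_comm, commutator_eq_bot_iff_le_centralizer]
  constructor
  · exact fun h => h.trans inf_le_right
  · exact fun h => le_inf hK h

variable [Finite H]

theorem card_im_mul {A : Subgroup H} (hA : A ≤ P) :
    Nat.card (im hn A) * Nat.card ↥(A ⊓ centralizer (V : Set H)) = Nat.card A := by
  have h1 := relIndex_ker (A.subgroupOf P) (pr hn)
  have h0 : Nat.card (A.subgroupOf P) = Nat.card A := Nat.card_congr (subgroupOfEquivOfLe hA).toEquiv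
  have h2 := card_mul_index ((pr hn).ker.subgroupOf (A.subgroupOf P))
  have h3 : Nat.card ((pr hn).ker.subgroupOf (A.subgroupOf P)) = Nat.card ↥(A ⊓ centralizer (V : Set H)) := by
    have e1 := (Nat.card_congr (((pr hn).ker.subgroupOf (A.subgroupOf P)).equivMapOfInjective _
      (A.subgroupOf P).subtype_injective).toEquiv)
    rw [subgroupOf_map_subtype] at e1
    have e2 := (Nat.card_congr ((((pr hn).ker ⊓ A.subgroupOf P)).equivMapOfInjective _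
      P.subtype_injective).toEquiv)
    rw [e1, e2]
    congr 2
    ext x
    constructor
    · rintro ⟨y, ⟨hy1, hy2⟩, rfl⟩
      exact ⟨hy2, (pr_eq_one hn).1 hy1⟩
    · rintro ⟨h1, h2⟩
      exact ⟨⟨x, hA h1⟩, ⟨(pr_eq_one hn).2 h2, h1⟩, rfl⟩
  rw [h0, h3] at h2
  unfold im
  rw [← h1, mul_comm]
  exact h2

end

end Cfsg.Agent.H250.P1
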