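import Cfsg.Agent.H250.P1.Asm
import Cfsg.Agent.H538.P1.PtNat

/-!
# The `P!`-theorem (S3046), Case A, (alpha): the structure `AStr` exists
-/

set_option autoImplicit false

open Cfsg Subgroup
open Cfsg.Agent.H230 Cfsg.Agent.H229 Cfsg.Agent.H247.P1
open Cfsg.Agent.H250.FFFam Cfsg.Agent.H250.FFStr Cfsg.Agent.H250.FFSL2
open scoped commutatorElement

namespace Cfsg.Agent.H250.P1

universe u

variable {H : Type u} [Group H] {p : ℕ} {S : Sylow p H} {Z C Q P : Subgroup H} [Finite H] [Fact p.Prime]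

/-- **(alpha)** -/
theorem exists_aStr (h : PHyp p S Z C Q P) (hVQ : largestPReducedOf p P ≤ Q)
    (hex : ∃ c ∈ C, ⁅largestPReducedOf p P, cj c (largestPReducedOf p P)⁆ ≠ ⊥) :
    ∃ (r : ℕ) (E W : Fin r → Subgroup H) (J R : Subgroup H) (F : Type) (_ : Field F) (_ : Fintype F),
      AStr p S Z C Q P (largestPReducedOf p P) (pCoreOf p P) J R E W F := by
  obtain ⟨c0, hc0, hne0⟩ := hex
  obtain ⟨c, hc, hne, hoff⟩ := exists_off h hVQ hc0 hne0
  obtain ⟨k, E, hS⟩ := exists_str h (im_mono _ (cj_le_S h hVQ hc)) hoff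
    (fun h1 => hne ((im_eq_bot _ (cj_le_P h hVQ hc)).1 h1))
  have hpt := pt_of h hVQ hS hc hne
  obtain ⟨F, iF, iFt, n, hn, hcard, hN⟩ := H538.P1.nat hpt
  have hnf := FFSym2.all_nf hpt.hV hpt.hT hS hn hcard hN (hpt.AQ.trans hpt.QT) hpt.off hpt.A_ne
  exact ⟨k, _, _, _, _, F, iF, iFt, aStr h hVQ hS hn hcard hnf
    (fun i => ((FFSym2.all_off hpt.hV hpt.hT hS hN (hpt.AQ.trans hpt.QT) hpt.off hpt.A_ne).2 i).2)
    (H538.P1.trans hpt) (fun c hc hne i => H538.P1.inf_eq (pt_of h hVQ hS hc hne) hn hcard hN i) ⟨c, hc, hne⟩⟩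

end Cfsg.Agent.H250.P1
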