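import Cfsg.Agent.H250.P1.Pt
import Cfsg.Agent.H229.Base

/-!
# The `P!`-theorem (S3046), Case A: module-theoretic consequences
-/

set_option autoImplicit false
set_option linter.unusedSectionVars false

namespace Cfsg.Agent.H250.P1.Mod

open Subgroup Cfsg.Agent.H250.FFFam Cfsg.Agent.H250.FFStr Cfsg.Agent.H250.FFSL2 Cfsg.Agent.H250.FFBau
open Cfsg.Agent.H250.FFSym2 Cfsg.Agent.Lib.SL2Mat
open Cfsg.Agent.H229 (mem_sup_of_norm centralizer_le_norm isPGroup_sup_of_norm)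

universe u

variable {p : ℕ} [Fact p.Prime] {X V : Type u} [Group X] [Group V] [MulDistribMulAction X V] [Finite X] [Finite V]
variable {T Q A : Subgroup X} {k : ℕ} {E : Fin k → Subgroup X}

section

variable (hS : Str p X V T E) (hfx : fx V (⨆ i, E i) = ⊥)
include hS

theorem fix_sup (i : Fin k) {u : V} (hu : u ∈ ⨆ j ∈ {j | j ≠ i}, cm V (E j)) : u ∈ fx V (E i) := by
  have h1 : (⨆ j ∈ {j | j ≠ i}, cm V (E j)) ≤ fx V (E i) := by
    refine iSup₂_le fun j hj w hw x hx => ?_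
    exact hS.fix j i hj x hx w hw
  exact h1 hu

include hfx in
theorem sup_cm : (⨆ i, cm V (E i)) = ⊤ := by
  rw [eq_top_iff]
  intro v _
  obtain ⟨w, hw, c, hc, rfl⟩ := hS.split v
  rw [hfx, mem_bot] at hc
  rw [hc, mul_one]
  exact hw

include hfx in
theorem ind_cm (i : Fin k) : cm V (E i) ⊓ (⨆ j ∈ {j | j ≠ i}, cm V (E j)) = ⊥ := by
  rw [eq_bot_iff, ← hfx]
  rintro u ⟨h1, h2⟩
  refine mem_fx_iSup fun j => ?_
  by_cases hij : i = j
  · subst hij; exact fix_sup hS i h2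
  · intro x hx
    exact hS.fix i j hij x hx u h1

include hfx in
theorem fx_cm (i : Fin k) {u : V} (hu : u ∈ cm V (E i)) (hu' : u ∈ fx V (E i)) : u = 1 := by
  have h1 : u ∈ fx V (⨆ i, E i) := by
    refine mem_fx_iSup fun j => ?_
    by_cases hij : i = j
    · subst hij; exact hu'
    · intro x hx
      exact hS.fix i j hij x hx u hu
  rw [hfx] at h1
  exact mem_bot.1 h1

theorem comm_iSup {i : Fin k} {x y : X} (hx : x ∈ E i) (hy : y ∈ ⨆ j ∈ {j | j ≠ i}, E j) : x * y = y * x := by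
  have h1 : (⨆ j ∈ {j | j ≠ i}, E j) ≤ centralizer ({x} : Set X) := by
    refine iSup₂_le fun j hj z hz => ?_
    rw [mem_centralizer_iff]
    intro w hw
    rw [Set.mem_singleton_iff.1 hw]
    exact hS.comm i j (Ne.symm hj) x hx z hz
  exact mem_centralizer_iff.1 (h1 hy) x rfl

theorem mem_mul_of_sup {i : Fin k} {L : Subgroup X} (hL : L ≤ ⨆ j ∈ {j | j ≠ i}, E j) {t : X} (ht : t ∈ E i ⊔ L) :
    ∃ x ∈ E i, ∃ y ∈ L, x * y = t := by
  have hn : L ≤ normalizer (E i : Set X) := by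
    refine le_trans ?_ (centralizer_le_norm _)
    intro y hy
    rw [mem_centralizer_iff]
    intro x hx
    exact comm_iSup hS hx (hL hy)
  exact (mem_sup_of_norm hn).1 ht

theorem norm_E (i : Fin k) : (⨆ j, E j) ≤ normalizer (E i : Set X) := by
  refine iSup_le fun j => ?_
  by_cases hij : i = j
  · subst hij; exact le_normalizer
  · refine le_trans ?_ (centralizer_le_norm _)
    intro y hy
    rw [mem_centralizer_iff]
    intro x hx
    exact hS.comm i j hij x hx y hy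

theorem mem_iSup_inf (hT : IsPGroup p ↥T) (hidx : ∀ i, ¬ p ∣ (T ⊓ E i).relIndex (E i)) (s : Finset (Fin k)) :
    ∀ t ∈ T, t ∈ (⨆ i ∈ s, E i) → t ∈ ⨆ i, T ⊓ E i := by
  classical
  induction s using Finset.induction_on with
  | empty =>
    intro t _ ht
    simp only [Finset.notMem_empty, iSup_false, iSup_bot, mem_bot] at ht
    rw [ht]; exact one_mem _
  | @insert i s his ih =>
    intro t htT ht
    rw [Finset.iSup_insert] at ht
    have hL : (⨆ j ∈ s, E j) ≤ ⨆ j ∈ {j | j ≠ i}, E j := by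
      refine iSup₂_le fun j hj => ?_
      have : j ≠ i := by rintro rfl; exact his hj
      exact le_iSup₂_of_le (f := fun j (_ : j ∈ {j | j ≠ i}) => E j) j this le_rfl
    obtain ⟨x, hx, y, hy, rfl⟩ := mem_mul_of_sup hS hL ht
    have hxy := comm_iSup hS hx (hL hy)
    -- `x` is a `p`-element
    have hxp : IsPGroup p ↥(zpowers x) := by
      obtain ⟨m, hm⟩ := hT ⟨_, htT⟩
      have hm' : (x * y) ^ p ^ m = 1 := congrArg Subtype.val hm
      rw [Commute.mul_pow hxy] at hm'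
      have h1 : x ^ p ^ m ∈ E i ⊓ ⨆ j ∈ {j | j ≠ i}, E j := by
        refine ⟨pow_mem hx _, ?_⟩
        rw [eq_inv_of_mul_eq_one_left hm']
        exact (⨆ j ∈ {j | j ≠ i}, E j).inv_mem (pow_mem (hL hy) _)
      rw [hS.ind i, mem_bot] at h1
      rintro ⟨z, hz⟩
      obtain ⟨n, rfl⟩ := mem_zpowers_iff.1 hz
      refine ⟨m, Subtype.ext ?_⟩
      change (x ^ n) ^ p ^ m = 1
      rw [← zpow_natCast, ← zpow_mul, mul_comm, zpow_mul, zpow_natCast, h1, one_zpow]
    have htN : x * y ∈ normalizer (E i : Set X) := by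
      refine norm_E hS i ?_
      refine mul_mem (mem_iSup_of_mem i hx) ?_
      exact (iSup₂_le fun j _ => le_iSup E j : (⨆ j ∈ {j | j ≠ i}, E j) ≤ ⨆ j, E j) (hL hy)
    have hxN : x ∈ normalizer ((T ⊓ E i : Subgroup X) : Set X) := by
      have h1 : x * y ∈ normalizer ((T ⊓ E i : Subgroup X) : Set X) :=
        Cfsg.Agent.H229.norm_inf_le _ _ ⟨le_normalizer htT, htN⟩
      have h2 : y ∈ normalizer ((T ⊓ E i : Subgroup X) : Set X) := by
        refine centralizer_le_norm _ ?_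
        rw [mem_centralizer_iff]
        intro z hz
        exact comm_iSup hS hz.2 (hL hy)
      have h3 := mul_mem h1 ((normalizer ((T ⊓ E i : Subgroup X) : Set X)).inv_mem h2)
      rwa [mul_inv_cancel_right] at h3
    have hB : IsPGroup p ↥((T ⊓ E i) ⊔ zpowers x : Subgroup X) :=
      isPGroup_sup_of_norm (hT.to_le inf_le_left) hxp (by rw [zpowers_le]; exact hxN)
    have h1 := inf_eq (B := T ⊓ E i) (E := E i) hB le_sup_left (by
      rw [inf_assoc, inf_idem]; exact hidx i)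
    have hxT : x ∈ T ⊓ E i := by
      have h2 : x ∈ ((T ⊓ E i) ⊔ zpowers x) ⊓ E i := ⟨mem_sup_right (mem_zpowers x), hx⟩
      rw [← h1] at h2
      exact h2.1
    have hyT : y ∈ T := by
      have := T.mul_mem (T.inv_mem hxT.1) htT
      rwa [inv_mul_cancel_left] at this
    exact mul_mem (mem_iSup_of_mem i hxT) (ih y hyT hy)

/-- `T ∩ J = ∏ (T ∩ E i)` -/
theorem inf_iSup (hT : IsPGroup p ↥T) (hidx : ∀ i, ¬ p ∣ (T ⊓ E i).relIndex (E i)) :
    T ⊓ (⨆ i, E i) = ⨆ i, T ⊓ E i := by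
  apply le_antisymm
  · rintro t ⟨h1, h2⟩
    refine mem_iSup_inf hS hT hidx Finset.univ t h1 ?_
    simpa using h2
  · exact iSup_le fun i => inf_le_inf_left _ (le_iSup E i)

variable {F : Type} [Field F] (hV : ∀ v w : V, v * w = w * v) (hNf : ∀ i, Nf F V T (E i))

include hV hfx hNf in
theorem mem_cm_of (hAT : ∀ i, T ⊓ E i ≤ A) {i : Fin k} {u : V} (hu : u ∈ cm V (E i)) (hu' : u ∈ fx V (T ⊓ E i)) :
    u ∈ cm V A := by
  obtain ⟨ρ, ψ, hsurj, hker, hact, hT, -⟩ := hNf i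
  have hx : ∀ c, ((ρ.symm (up c) : ↥(E i)) : X) ∈ T := fun c => (hT _).2 ⟨c, ρ.apply_symm_apply _⟩
  have h3 := hu' ((ρ.symm (up 1) : ↥(E i)) : X) ⟨hx 1, (ρ.symm (up 1)).2⟩
  have h4 := hact (ρ.symm (up 1)) ⟨u, hu⟩ ⟨u, hu⟩ h3.symm
  rw [ρ.apply_symm_apply, up_mulVec] at h4
  have h5 := congrFun h4 0
  simp only [Matrix.cons_val_zero, one_mul] at h5
  have h6 := left_eq_add.1 h5
  obtain ⟨w, hw⟩ := hsurj (Multiplicative.ofAdd ![0, Multiplicative.toAdd (ψ ⟨u, hu⟩) 0])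
  have hwx := cm_smul (V := V) (ρ.symm (up 1)).2 w.2
  have h7 := hact (ρ.symm (up 1)) w ⟨_, hwx⟩ rfl
  rw [ρ.apply_symm_apply, up_mulVec, hw] at h7
  have h8 : ψ (⟨_, hwx⟩ * w⁻¹ * (⟨u, hu⟩ : ↥(cm V (E i)))⁻¹) = 1 := by
    rw [map_mul, map_mul, map_inv, map_inv]
    apply Multiplicative.toAdd.injective
    rw [toAdd_mul, toAdd_mul, toAdd_inv, toAdd_inv, h7, hw, toAdd_one]
    funext j
    fin_cases j
    · simp
    · simp [h6]
  have h9 := fx_cm hS hfx i (⟨_, hwx⟩ * w⁻¹ * (⟨u, hu⟩ : ↥(cm V (E i)))⁻¹ : ↥(cm V (E i))).2 ((hker _).1 h8)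
  have h10 : ((ρ.symm (up 1) : ↥(E i)) : X) • (w : V) * (w : V)⁻¹ * u⁻¹ = 1 := h9
  rw [mul_inv_eq_one] at h10
  rw [← h10]
  exact mem_cm (hAT i ⟨hx 1, (ρ.symm (up 1)).2⟩) _

include hV hfx hNf in
theorem mem_cm_fin (hA : A = ⨆ i, T ⊓ E i) (s : Finset (Fin k)) :
    ∀ v ∈ fx V A, v ∈ (⨆ i ∈ s, cm V (E i)) → v ∈ cm V A := by
  classical
  induction s using Finset.induction_on with
  | empty =>
    intro v _ hv
    simp only [Finset.notMem_empty, iSup_false, iSup_bot, mem_bot] at hv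
    rw [hv]; exact one_mem _
  | @insert i s his ih =>
    intro v hvA hv
    rw [Finset.iSup_insert] at hv
    have hAT : ∀ i, T ⊓ E i ≤ A := fun i => by rw [hA]; exact le_iSup (fun i => T ⊓ E i) i
    have hL : (⨆ j ∈ s, cm V (E j)) ≤ ⨆ j ∈ {j | j ≠ i}, cm V (E j) := by
      refine iSup₂_le fun j hj => ?_
      have : j ≠ i := by rintro rfl; exact his hj
      exact le_iSup₂_of_le (f := fun j (_ : j ∈ {j | j ≠ i}) => cm V (E j)) j this le_rfl
    have hn : (⨆ j ∈ s, cm V (E j)) ≤ normalizer (cm V (E i) : Set V) := by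
      refine le_trans ?_ (centralizer_le_norm _)
      intro y _
      rw [mem_centralizer_iff]
      intro x _
      exact hV x y
    obtain ⟨u, hu, w, hw, rfl⟩ := (mem_sup_of_norm hn).1 hv
    have hw1 : w ∈ fx V (E i) := fix_sup hS i (hL hw)
    have hu1 : u ∈ fx V (T ⊓ E i) := by
      intro x hx
      have h1 := hvA x (hAT i hx)
      rw [smul_mul', hw1 x hx.2] at h1
      exact mul_right_cancel h1
    have hu2 : u ∈ fx V A := by
      rw [hA]
      refine mem_fx_iSup fun j => ?_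
      by_cases hij : i = j
      · subst hij; exact hu1
      · intro x hx
        exact hS.fix i j hij x hx.2 u hu
    have hw2 : w ∈ fx V A := by
      have := (fx V A).mul_mem ((fx V A).inv_mem hu2) hvA
      rwa [inv_mul_cancel_left] at this
    exact mul_mem (mem_cm_of hS hfx hV hNf hAT hu hu1) (ih w hw2 hw)

include hV hfx hNf in
/-- `C_V(A) ≤ [V, A]` -/
theorem fx_le_cm (hA : A = ⨆ i, T ⊓ E i) : fx V A ≤ cm V A := by
  intro v hv
  refine mem_cm_fin hS hfx hV hNf hA Finset.univ v hv ?_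
  simp only [Finset.mem_univ, iSup_pos]
  rw [sup_cm hS hfx]
  exact mem_top v

include hNf in
theorem E_ne (i : Fin k) : E i ≠ ⊥ := by
  intro h1
  obtain ⟨ρ, -⟩ := hNf i
  have h2 : ∀ x : ↥(E i), x = 1 := fun x => Subtype.ext (mem_bot.1 (h1.le x.2))
  have h3 : (up 1 : Matrix.SpecialLinearGroup (Fin 2) F) = up 0 := by
    rw [← ρ.apply_symm_apply (up 1), ← ρ.apply_symm_apply (up 0), h2 (ρ.symm (up 1)), h2 (ρ.symm (up 0))]
  exact one_ne_zero (up_inj h3)

include hNf in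
theorem E_inj {i j : Fin k} (h : E i = E j) : i = j := by
  by_contra hij
  apply E_ne hS hNf i
  rw [← hS.ind i, eq_comm, inf_eq_left, h]
  exact le_iSup₂_of_le (f := fun j (_ : j ∈ {j | j ≠ i}) => E j) j (Ne.symm hij) le_rfl

end

end Cfsg.Agent.H250.P1.Mod
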