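import Cfsg.Agent.H250.P1.Off
import Cfsg.Agent.H250.P1.Mod

/-!
# The `P!`-theorem (S3046), Case A: assembly of the structure `AStr`
-/

set_option autoImplicit false
set_option linter.unusedSectionVars false

open Cfsg Subgroup
open Cfsg.Agent.H230 Cfsg.Agent.H229 Cfsg.Agent.H247.P1
open Cfsg.Agent.H250.FFFam Cfsg.Agent.H250.FFStr Cfsg.Agent.H250.FFSL2
open scoped commutatorElement

namespace Cfsg.Agent.H250.P1

universe u

variable {H : Type u} [Group H] {p : ℕ} {S : Sylow p H} {Z C Q P : Subgroup H} [Finite H] [Fact p.Prime]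
  (h : PHyp p S Z C Q P) (hVQ : YY p P ≤ Q) {k : ℕ} {E : Fin k → Subgroup ↥(XX (hY p P))}
  (hS : Str p ↥(XX (hY p P)) ↥(YY p P) (im (hY p P) (S : Subgroup H)) E)

omit [Finite H] in
theorem isPGroup_im {K : Subgroup H} (hK : IsPGroup p ↥K) : IsPGroup p ↥(im (hY p P) K) := by
  have h1 : IsPGroup p ↥(K.subgroupOf P) := hK.comap_subtype
  exact h1.map _

include h hS

theorem fx_bot : fx ↥(YY p P) (⨆ i, E i) = ⊥ := by
  rw [eq_bot_iff]
  intro v hv
  have hN := hS.norm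
  have h1 : pResidual p ↥(XX (hY p P)) ≤ ⨆ i, E i :=
    pResidual_le_of_le_sup (isPGroup_im (p := p) (P := P) S.2) (by rw [hS.top]; exact le_top)
  have h2 : resOf p P ≤ pre (hY p P) (⨆ i, E i) := by
    rw [resOf_eq_closure, closure_le]
    rintro g ⟨hg, hgc⟩
    refine (mem_pre _).2 ⟨hg, h1 (subset_closure ?_)⟩
    have h5 : orderOf (pr (hY p P) ⟨g, hg⟩) ∣ orderOf (⟨g, hg⟩ : ↥P) := orderOf_map_dvd (pr (hY p P)) (⟨g, hg⟩ : ↥P)
    have h6 : orderOf (⟨g, hg⟩ : ↥P) = orderOf g := Subgroup.orderOf_mk g hg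
    rw [h6] at h5
    exact Nat.Coprime.coprime_dvd_left h5 hgc
  have h3 := (mem_fx_pre (hY p P) _).1 hv
  have h4 : (v : H) ∈ YY p P ⊓ centralizer (resOf p P : Set H) := ⟨v.2, (Subgroup.centralizer_le h2) h3⟩
  rw [h.inf_cent_res, mem_bot] at h4
  exact mem_bot.2 (Subtype.ext h4)

include hVQ

/-- the module form of the hypotheses -/
theorem pt_of {c : H} (hc : c ∈ C) (hne : ⁅YY p P, cj c (YY p P)⁆ ≠ ⊥) :
    Pt p ↥(XX (hY p P)) ↥(YY p P) (im (hY p P) (S : Subgroup H)) (im (hY p P) Q)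
      (im (hY p P) (cj c (YY p P))) E where
  hV := YY_comm
  hVp := YY_pow
  hf := faith _
  hT := isPGroup_im S.2
  hTi := (Tb h.hSP).not_dvd_index
  str := hS
  fx_bot := fx_bot h hS
  QT := im_mono _ h.Q_le_S
  TQ := by
    intro x hx
    obtain ⟨g, hg, hgS, rfl⟩ := (mem_im _).1 hx
    refine norm_im _ hg ?_
    rw [h.C_eq]
    exact h.S_le hgS
  Qn := by
    intro hn
    have h1 := core h _ hn (isPGroup_im h.Q_pgroup)
    have h2 := (im_mono (hY p P) (cj_le_Q h hVQ hc)).trans h1.le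
    exact hne ((im_eq_bot _ (cj_le_P h hVQ hc)).1 (le_bot_iff.1 h2))
  pt := by
    intro v hv hvQ x hx
    obtain ⟨g, rfl⟩ := pr_surj (hY p P) x
    refine norm_im _ g.2 ?_
    rw [h.C_eq]
    have h1 : (v : H) ∈ centralizer (Q : Set H) := (mem_fx_im (hY p P) h.Q_le_P).1 hvQ
    refine h.cent_le h1 (fun h2 => hv (Subtype.ext h2)) ?_
    rw [mem_centralizer_singleton_iff]
    exact (smul_eq_iff _ g v).1 hx
  AQ := im_mono _ (cj_le_Q h hVQ hc)
  A_ne := fun h1 => hne ((im_eq_bot _ (cj_le_P h hVQ hc)).1 h1)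
  QA := by
    intro x hx
    obtain ⟨g, hg, hgQ, rfl⟩ := (mem_im _).1 hx
    exact norm_im _ hg (Q_norm_cj h hVQ hc hgQ)
  off := off_all h hVQ hS hc

omit hVQ in
theorem cj_pre_of {x : H} (hx : x ∈ P) {i j : Fin k}
    (hE : ∀ y, pr (hY p P) ⟨x, hx⟩ * y * (pr (hY p P) ⟨x, hx⟩)⁻¹ ∈ E j ↔ y ∈ E i) :
    cj x (pre (hY p P) (E i)) = pre (hY p P) (E j) := by
  rw [conj_pre _ hx, FFSym2.E_conj (E := E) hE]

variable {F : Type} [Field F] [Fintype F] {n : ℕ} (hn : 1 ≤ n) (hcard : Fintype.card F = p ^ n)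
  (hNf : ∀ i, Nf F ↥(YY p P) (im (hY p P) (S : Subgroup H)) (E i))

omit hVQ in
include hNf in
theorem natW (i : Fin k) : NatW F (S : Subgroup H) (pre (hY p P) (E i)) ((cm ↥(YY p P) (E i)).map (YY p P).subtype) := by
  have hfx := fx_bot h hS
  obtain ⟨ρ, ψ, hsurj, hker, hact, hT, -⟩ := hNf i
  -- the homomorphism
  have hmem : ∀ x : ↥(pre (hY p P) (E i)), pr (hY p P) ⟨x, pre_le _ _ x.2⟩ ∈ E i := fun x =>
    ((mem_pre (hY p P)).1 x.2).2
  let θ : ↥(pre (hY p P) (E i)) →* ↥(E i) :=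
    { toFun := fun x => ⟨pr (hY p P) ⟨x, pre_le _ _ x.2⟩, hmem x⟩
      map_one' := Subtype.ext (map_one _)
      map_mul' := fun x y => Subtype.ext (map_mul (pr (hY p P)) ⟨x, pre_le _ _ x.2⟩ ⟨y, pre_le _ _ y.2⟩) }
  have hθ : Function.Surjective θ := by
    intro y
    obtain ⟨g, hg⟩ := pr_surj (hY p P) (y : ↥(XX (hY p P)))
    exact ⟨⟨g, (mem_pre _).2 ⟨g.2, by rw [hg]; exact y.2⟩⟩, Subtype.ext hg⟩
  -- the coordinates
  have hinj : Function.Injective ψ := by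
    rw [injective_iff_map_eq_one]
    intro u hu
    exact Subtype.ext (Mod.fx_cm hS hfx i u.2 ((hker u).1 hu))
  let e0 : ↥(cm ↥(YY p P) (E i)) ≃* Multiplicative (Fin 2 → F) := MulEquiv.ofBijective ψ ⟨hinj, hsurj⟩
  let e1 : ↥(cm ↥(YY p P) (E i)) ≃* ↥((cm ↥(YY p P) (E i)).map (YY p P).subtype) :=
    (cm ↥(YY p P) (E i)).equivMapOfInjective _ (YY p P).subtype_injective
  have he1 : ∀ u, ((e1 u : ↥((cm ↥(YY p P) (E i)).map (YY p P).subtype)) : H) = ((u : ↥(YY p P)) : H) := fun u => rfl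
  let ψ' : Additive ↥((cm ↥(YY p P) (E i)).map (YY p P).subtype) ≃+ (Fin 2 → F) :=
    (MulEquiv.toAdditive (e1.symm.trans e0)).trans (AddEquiv.additiveMultiplicative _)
  have hψ' : ∀ u, ψ' (Additive.ofMul (e1 u)) = Multiplicative.toAdd (ψ u) := by
    intro u
    change Multiplicative.toAdd (ψ (e1.symm (e1 u))) = _
    rw [e1.symm_apply_apply]
  refine ⟨ρ.toMonoidHom.comp θ, ψ', ρ.surjective.comp hθ, ?_, ?_, ?_⟩
  · intro x v
    obtain ⟨u, rfl⟩ := e1.surjective v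
    have hxu := cm_smul (V := ↥(YY p P)) (θ x).2 u.2
    refine ⟨e1 ⟨_, hxu⟩, rfl, ?_⟩
    rw [hψ', hψ']
    exact hact (θ x) u ⟨_, hxu⟩ rfl
  · intro x hx
    obtain ⟨a, ha⟩ := (hT (θ x)).1 ((mem_im _).2 ⟨x, pre_le _ _ x.2, hx, rfl⟩)
    refine ⟨a, ?_⟩
    change ((ρ (θ x) : Matrix.SpecialLinearGroup (Fin 2) F) : Matrix (Fin 2) (Fin 2) F) = _
    rw [ha]; rfl
  · intro a
    obtain ⟨g, hg, hgS, hgx⟩ := (mem_im _).1 ((hT (ρ.symm (Lib.SL2Mat.up a))).2 ⟨a, ρ.apply_symm_apply _⟩)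
    have hgE : g ∈ pre (hY p P) (E i) := (mem_pre _).2 ⟨hg, by rw [hgx]; exact (ρ.symm (Lib.SL2Mat.up a)).2⟩
    refine ⟨⟨g, hgE⟩, hgS, ?_⟩
    have e2 : θ ⟨g, hgE⟩ = ρ.symm (Lib.SL2Mat.up a) := Subtype.ext hgx
    change ((ρ (θ ⟨g, hgE⟩) : Matrix.SpecialLinearGroup (Fin 2) F) : Matrix (Fin 2) (Fin 2) F) = _
    rw [e2, ρ.apply_symm_apply]; rfl

include hn hcard hNf in
/-- **the structure `AStr`** -/
theorem aStr (hidx : ∀ i, ¬ p ∣ (im (hY p P) (S : Subgroup H) ⊓ E i).relIndex (E i))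
    (htr : ∀ i j, ∃ q ∈ im (hY p P) Q, ∀ x, q * x * q⁻¹ ∈ E j ↔ x ∈ E i)
    (hinf : ∀ c ∈ C, ⁅YY p P, cj c (YY p P)⁆ ≠ ⊥ → ∀ i,
      im (hY p P) (cj c (YY p P)) ⊓ E i = im (hY p P) (S : Subgroup H) ⊓ E i)
    (hex : ∃ c ∈ C, ⁅YY p P, cj c (YY p P)⁆ ≠ ⊥) :
    AStr p S Z C Q P (YY p P) (pCoreOf p P) (pre (hY p P) (⨆ i, E i))
      (YY p P ⊓ centralizer (((S : Subgroup H) ⊓ pre (hY p P) (⨆ i, E i) : Subgroup H) : Set H))
      (fun i => pre (hY p P) (E i)) (fun i => (cm ↥(YY p P) (E i)).map (YY p P).subtype) F := by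
  have hfx := fx_bot h hS
  have hne : Nonempty (Fin k) := ⟨⟨0, hS.pos⟩⟩
  have hT : IsPGroup p ↥(im (hY p P) (S : Subgroup H)) := isPGroup_im S.2
  have hinjE : ∀ i j, pre (hY p P) (E i) = pre (hY p P) (E j) → i = j := by
    intro i j hij
    have h1 := congrArg (im (hY p P)) hij
    rw [im_pre, im_pre] at h1
    exact Mod.E_inj hS hNf h1
  -- `R` for each `c`
  have hR : ∀ c ∈ C, ⁅YY p P, cj c (YY p P)⁆ ≠ ⊥ →
      cj c (YY p P) ⊔ pCoreOf p P = (S : Subgroup H) ⊓ pre (hY p P) (⨆ i, E i) ∧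
      ⁅YY p P, cj c (YY p P)⁆ = YY p P ⊓ centralizer (((S : Subgroup H) ⊓ pre (hY p P) (⨆ i, E i) : Subgroup H) : Set H) ∧
      YY p P ⊓ cj c (YY p P) =
        YY p P ⊓ centralizer (((S : Subgroup H) ⊓ pre (hY p P) (⨆ i, E i) : Subgroup H) : Set H) := by
    intro c hc hcne
    have hA := off_all h hVQ hS hc
    have hAT : im (hY p P) (cj c (YY p P)) ≤ im (hY p P) (S : Subgroup H) := im_mono _ (cj_le_S h hVQ hc)
    have hAeq : im (hY p P) (cj c (YY p P)) = ⨆ i, im (hY p P) (S : Subgroup H) ⊓ E i := by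
      rw [hS.sup _ hAT hA]
      exact iSup_congr fun i => hinf c hc hcne i
    have hTJ := Mod.inf_iSup hS hT hidx
    have h1 : cj c (YY p P) ⊔ pCoreOf p P = (S : Subgroup H) ⊓ pre (hY p P) (⨆ i, E i) := by
      apply le_antisymm
      · refine sup_le (le_inf (cj_le_S h hVQ hc) ?_) (le_inf h.D_le_S ?_)
        · rw [← im_le_iff _ (cj_le_P h hVQ hc)]
          exact hS.le _ hA
        · exact (le_inf (H229.pCoreOf_le _ _) (pCoreOf_le_centralizer_largest p P)).trans (le_pre _ _)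
      · rintro x ⟨hxS, hxJ⟩
        obtain ⟨hxP, hxE⟩ := (mem_pre _).1 hxJ
        have h2 : pr (hY p P) ⟨x, hxP⟩ ∈ im (hY p P) (cj c (YY p P)) := by
          rw [hAeq, ← hTJ]
          exact ⟨(mem_im _).2 ⟨x, hxP, hxS, rfl⟩, hxE⟩
        obtain ⟨a, haP, ha, hax⟩ := (mem_im _).1 h2
        have h3 : pr (hY p P) (⟨a, haP⟩⁻¹ * ⟨x, hxP⟩) = 1 := by rw [map_mul, map_inv, hax, inv_mul_cancel]
        have h4 : a⁻¹ * x ∈ pCoreOf p P := by
          rw [← h.inf_cent_Y]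
          exact ⟨(S : Subgroup H).mul_mem ((S : Subgroup H).inv_mem (cj_le_S h hVQ hc ha)) hxS, (pr_eq_one _).1 h3⟩
        have h5 : x = a * (a⁻¹ * x) := by group
        rw [h5]
        exact mul_mem (mem_sup_left ha) (mem_sup_right h4)
    have h2 : YY p P ⊓ centralizer (((S : Subgroup H) ⊓ pre (hY p P) (⨆ i, E i) : Subgroup H) : Set H) =
        YY p P ⊓ centralizer (cj c (YY p P) : Set H) := by
      rw [← h1]
      apply le_antisymm
      · exact inf_le_inf_left _ (Subgroup.centralizer_le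
          (le_sup_left : cj c (YY p P) ≤ cj c (YY p P) ⊔ pCoreOf p P))
      · refine le_inf inf_le_left ?_
        apply le_centralizer_comm
        refine sup_le (le_centralizer_comm inf_le_right) ?_
        exact (pCoreOf_le_centralizer_largest p P).trans (Subgroup.centralizer_le inf_le_left)
    rw [h2]
    have h3 : ⁅YY p P, cj c (YY p P)⁆ ≤ YY p P ⊓ cj c (YY p P) := by
      refine le_inf ?_ ?_
      · rw [commutator_comm]
        exact le_norm_iff_comm_le.1 ((cj_le_P h hVQ hc).trans (hY p P))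
      · exact le_norm_iff_comm_le.1 (hVQ.trans (Q_norm_cj h hVQ hc))
    have h4 : YY p P ⊓ cj c (YY p P) ≤ YY p P ⊓ centralizer (cj c (YY p P) : Set H) :=
      inf_le_inf_left _ (ea_le_centralizer (ea_map (largest_ea p P) _))
    have h5 : YY p P ⊓ centralizer (cj c (YY p P) : Set H) ≤ ⁅YY p P, cj c (YY p P)⁆ := by
      rw [← map_fx_im (hY p P) (cj_le_P h hVQ hc), ← map_cm_im (hY p P) (cj_le_P h hVQ hc)]
      exact map_mono (Mod.fx_le_cm hS hfx YY_comm hNf hAeq)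
    exact ⟨h1, le_antisymm (h3.trans h4) h5, le_antisymm h4 (h5.trans h3)⟩
  exact
    { hyp := h
      V_eq := rfl
      D_eq := rfl
      VQ := hVQ
      pos := hS.pos
      cardF := ⟨n, hn, hcard⟩
      E_le := fun i => pre_le _ _
      le_E := fun i => le_pre _ _
      comm := by
        intro i j hij
        rw [commutator_le]
        intro x hx y hy
        obtain ⟨hxP, hxE⟩ := (mem_pre _).1 hx
        obtain ⟨hyP, hyE⟩ := (mem_pre _).1 hy
        have h1 := hS.comm i j hij _ hxE _ hyE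
        have h2 : pr (hY p P) ⁅(⟨x, hxP⟩ : ↥P), ⟨y, hyP⟩⁆ = 1 := by
          rw [map_commutatorElement, commutatorElement_eq_one_iff_mul_comm]
          exact h1
        exact (pr_eq_one _).1 h2
      J_eq := pre_iSup _ _
      J_norm := pre_normal _ hS.norm
      J_sup := by
        have hle : pre (hY p P) (⨆ i, E i) ⊔ (S : Subgroup H) ≤ P := sup_le (pre_le _ _) h.hSP
        have h1 := pre_im_of_le (hY p P) hle ((le_pre (hY p P) _).trans le_sup_left)
        rw [im_sup _ (pre_le _ _) h.hSP, im_pre, hS.top, pre_top] at h1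
        exact h1.symm
      perm := by
        intro x hx i
        obtain ⟨j, hj⟩ := hS.perm (pr (hY p P) ⟨x, hx⟩) i
        exact ⟨j, cj_pre_of h hS hx hj⟩
      permW := by
        intro x hx i j hij
        rw [map_cm, map_cm, cj_comm, mem_norm.1 (hY p P hx)]
        exact congrArg (fun K => ⁅YY p P, K⁆) hij
      trans := by
        intro i j
        obtain ⟨q, hq, hqE⟩ := htr i j
        obtain ⟨g, hg, hgQ, rfl⟩ := (mem_im _).1 hq
        exact ⟨g, hgQ, cj_pre_of h hS hg hqE⟩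
      inj := hinjE
      W_le := fun i => Subgroup.map_subtype_le _
      W_sup := by
        rw [← Subgroup.map_iSup, Mod.sup_cm hS hfx, ← MonoidHom.range_eq_map, Subgroup.range_subtype]
      W_ind := by
        intro i
        have h1 : (⨆ j ∈ {j | j ≠ i}, (cm ↥(YY p P) (E j)).map (YY p P).subtype) =
            (⨆ j ∈ {j | j ≠ i}, cm ↥(YY p P) (E j)).map (YY p P).subtype := by
          rw [Subgroup.map_iSup]
          exact iSup_congr fun j => (Subgroup.map_iSup _ _).symm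
        rw [h1, ← Subgroup.map_inf _ _ _ (YY p P).subtype_injective, Mod.ind_cm hS hfx i, Subgroup.map_bot]
      fix := by
        rintro i j hij _ ⟨u, hu, rfl⟩
        have h1 : u ∈ fx ↥(YY p P) (E j) := fun x hx => hS.fix i j hij x hx u hu
        exact (mem_fx_pre (hY p P) _).1 h1
      nat := natW h hS hNf
      R_eq := rfl
      adj := by
        intro c hc hcne
        obtain ⟨h1, h2, h3⟩ := hR c hc hcne
        refine ⟨h1, h2, h3, ?_⟩
        obtain ⟨-, -, h4⟩ := hR c⁻¹ (C.inv_mem hc) (comm_inv h hVQ hcne)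
        conv_lhs => rw [← h4]
        rw [cj_inf, cj_cj_inv, inf_comm, h3]
      ex := hex }

end Cfsg.Agent.H250.P1
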