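import Cfsg.Agent.H247.P1.Par

/-!
# The `P!`-theorem (S3046), Case A (`W = ⟨Y_P^C⟩` is not abelian): the interface

`AStr`: the structure of `P` and of `V = Y_P` when some `V^c`, `c ∈ C`, does not commute with `V`. `cj x K = x K x⁻¹`.
-/

set_option autoImplicit false
set_option linter.unusedSectionVars false

open Cfsg Subgroup
open Cfsg.Agent.H230 Cfsg.Agent.H229 Cfsg.Agent.H247.P1

namespace Cfsg.Agent.H250.P1

variable {H : Type*} [Group H] {p : ℕ}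

/-- `E` acts on `W` as `SL₂(F)` on the natural module; `S ∩ E` is the group of the upper unitriangular matrices. -/
def NatW (F : Type) [Field F] (S E W : Subgroup H) : Prop :=
  ∃ (ρ : ↥E →* Matrix.SpecialLinearGroup (Fin 2) F) (ψ : Additive ↥W ≃+ (Fin 2 → F)),
    Function.Surjective ρ ∧
    (∀ (x : ↥E) (v : ↥W), ∃ w : ↥W, (w : H) = (x : H) * (v : H) * (x : H)⁻¹ ∧
      ψ (Additive.ofMul w) = ((ρ x : Matrix.SpecialLinearGroup (Fin 2) F) : Matrix (Fin 2) (Fin 2) F).mulVec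
        (ψ (Additive.ofMul v))) ∧
    (∀ x : ↥E, (x : H) ∈ S → ∃ a : F, ((ρ x : Matrix.SpecialLinearGroup (Fin 2) F) : Matrix (Fin 2) (Fin 2) F) =
      !![1, a; 0, 1]) ∧
    ∀ a : F, ∃ x : ↥E, (x : H) ∈ S ∧
      ((ρ x : Matrix.SpecialLinearGroup (Fin 2) F) : Matrix (Fin 2) (Fin 2) F) = !![1, a; 0, 1]

/-- **the structure in Case A**. `V = Y_P`, `D = O_p(P)`, `E i ≥ C_P(V)`, `J = E_1 ⋯ E_r ⊴ P`, `P = J S`, `V = W_1 × ⋯ × W_r`,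
`R = C_V(S ∩ J)`; `Q` permutes the `E i` transitively. -/
structure AStr (p : ℕ) (S : Sylow p H) (Z C Q P V D J R : Subgroup H) {r : ℕ} (E W : Fin r → Subgroup H)
    (F : Type) [Field F] [Fintype F] : Prop where
  hyp : PHyp p S Z C Q P
  V_eq : V = largestPReducedOf p P
  D_eq : D = pCoreOf p P
  VQ : V ≤ Q
  pos : 0 < r
  cardF : ∃ n : ℕ, 1 ≤ n ∧ Fintype.card F = p ^ n
  E_le : ∀ i, E i ≤ P
  le_E : ∀ i, P ⊓ centralizer (V : Set H) ≤ E i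
  comm : ∀ i j, i ≠ j → ⁅E i, E j⁆ ≤ centralizer (V : Set H)
  J_eq : J = ⨆ i, E i
  J_norm : P ≤ normalizer (J : Set H)
  J_sup : J ⊔ (S : Subgroup H) = P
  perm : ∀ x ∈ P, ∀ i, ∃ j, cj x (E i) = E j
  permW : ∀ x ∈ P, ∀ i j, cj x (E i) = E j → cj x (W i) = W j
  trans : ∀ i j, ∃ x ∈ Q, cj x (E i) = E j
  inj : ∀ i j, E i = E j → i = j
  W_le : ∀ i, W i ≤ V
  W_sup : ⨆ i, W i = V
  W_ind : ∀ i, W i ⊓ (⨆ j ∈ {j | j ≠ i}, W j) = ⊥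
  fix : ∀ i j, i ≠ j → W i ≤ centralizer (E j : Set H)
  nat : ∀ i, NatW F (S : Subgroup H) (E i) (W i)
  R_eq : R = V ⊓ centralizer (((S : Subgroup H) ⊓ J : Subgroup H) : Set H)
  adj : ∀ c ∈ C, ⁅V, cj c V⁆ ≠ ⊥ →
    cj c V ⊔ D = (S : Subgroup H) ⊓ J ∧ ⁅V, cj c V⁆ = R ∧ V ⊓ cj c V = R ∧ cj c R = R
  ex : ∃ c ∈ C, ⁅V, cj c V⁆ ≠ ⊥

end Cfsg.Agent.H250.P1
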