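import Cfsg.Agent.H247.P1.Final
import Cfsg.Agent.H271.PU.EndB
import Cfsg.Agent.H371.PU.Inst

/-!
# S3046 from the classification and the row (X) (helper250)
-/

set_option autoImplicit false

namespace Cfsg.Agent.H250.P1.Final

open Subgroup Cfsg

universe u

theorem main (hkn : ∀ (X : Type u) [Group X] [Finite X] [IsSimpleGroup X], IsKnownSimple' X)
    (hodd : H271.PU.OddRow.{u}) {H : Type u} [Group H] [Finite H] {p : ℕ} [Fact p.Prime] (hdiv : p ∣ Nat.card H)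
    (hK : Cfsg.IsKpGroup p H) (hloc : Cfsg.IsOfLocalCharacteristic p H)
    (S : Sylow p H) (Z C Q : Subgroup H)
    (hZ : Z = Cfsg.omegaOne p ((S : Subgroup H) ⊓ Subgroup.centralizer ((S : Subgroup H) : Set H)))
    (hCloc : (∃ T : Subgroup H, IsPGroup p ↥T ∧ T ≠ ⊥ ∧ C = Subgroup.normalizer (T : Set H))) (hCmax : ∀ L : Subgroup H, (∃ T : Subgroup H, IsPGroup p ↥T ∧ T ≠ ⊥ ∧ L = Subgroup.normalizer (T : Set H)) → C ≤ L → L = C)
    (hNZ : Subgroup.normalizer (Z : Set H) ≤ C) (hQ : Q = (Cfsg.pCore p ↥C).map C.subtype)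
    (hQuniq : ∀ x ∈ Q ⊓ Subgroup.centralizer (Q : Set H), x ≠ 1 → Subgroup.centralizer ({x} : Set H) ≤ C)
    (P : Subgroup H) (hSP : (S : Subgroup H) ≤ P) (hPmin : Cfsg.IsPMinimal p ↥P)
    (hPchar : Subgroup.centralizer (((Cfsg.pCore p ↥P).map P.subtype : Subgroup H) : Set H) ≤ (Cfsg.pCore p ↥P).map P.subtype) (hPC : ¬ P ≤ C)
    (hYM : ∀ M : Subgroup H, P ≤ M → Subgroup.centralizer (((Cfsg.pCore p ↥M).map M.subtype : Subgroup H) : Set H) ≤ (Cfsg.pCore p ↥M).map M.subtype →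
      (∀ M' : Subgroup H, M ≤ M' → Subgroup.centralizer (((Cfsg.pCore p ↥M').map M'.subtype : Subgroup H) : Set H) ≤ (Cfsg.pCore p ↥M').map M'.subtype → M' = M) →
      Cfsg.largestPReducedOf p M ≤ Q)
    (Pstar : Subgroup H)
    (hPstar : Pstar = (Subgroup.normalClosure ((Q.subgroupOf P : Subgroup ↥P) : Set ↥P)).map P.subtype ⊔ (Cfsg.pCore p ↥P).map P.subtype) :
    (∃ (F : Type) (_ : Field F) (_ : Fintype F), ringChar F = p ∧
       Cfsg.IsNaturalSL2Module F (Cfsg.largestPReducedOf p P) Pstar ∧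
       Pstar ⊓ Subgroup.centralizer (Cfsg.largestPReducedOf p P : Set H) = (Cfsg.pCore p ↥P).map P.subtype) ∧
    Cfsg.omegaOne p (((S : Subgroup H) ⊓ Pstar) ⊓ Subgroup.centralizer (((S : Subgroup H) ⊓ Pstar : Subgroup H) : Set H)) ≤ C ∧
    ((Cfsg.omegaOne p (((S : Subgroup H) ⊓ Pstar) ⊓ Subgroup.centralizer (((S : Subgroup H) ⊓ Pstar : Subgroup H) : Set H))).subgroupOf C).Normal ∧
    ∀ M : Subgroup H, M < P → (S : Subgroup H) ≤ M → (∀ M' : Subgroup H, M ≤ M' → M' < P → M' = M) → M = P ⊓ C := by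
  refine H247.P1.of_caseB' hdiv hK hloc S Z C Q hZ hCloc hCmax hNZ hQ hQuniq P hSP hPmin hPchar hPC hYM Pstar hPstar
    fun W _ hW => ?_
  obtain ⟨rfl, K, hKn, -, -, hc, h | h⟩ := H271.PU.endB hkn hodd hW
  · exact H371.PU.caseB_twF4 hW h hc hPstar
  · exact H371.PU.caseB_tits hW h hc hPstar

end Cfsg.Agent.H250.P1.Final
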