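import Cfsg.Agent.H250.P1.Act
import Cfsg.Agent.H250.FFOff
import Cfsg.Agent.H263.FF.OddStr
import Cfsg.Agent.H273.PMinimal

/-!
# The `P!`-theorem (S3046), Case A: the offender `V^c` and the structure of `P / C_P(V)`
-/

set_option autoImplicit false
set_option linter.unusedSectionVars false

open Cfsg Subgroup
open Cfsg.Agent.H230 Cfsg.Agent.H229 Cfsg.Agent.H247.P1
open Cfsg.Agent.H250.FFFam Cfsg.Agent.H250.FFStr
open scoped commutatorElement

namespace Cfsg.Agent.H250.P1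

universe u

variable {H : Type u} [Group H] {p : ℕ}

/-- `Y_P` -/
abbrev YY (p : ℕ) (P : Subgroup H) : Subgroup H := largestPReducedOf p P

/-- `P ≤ N(Y_P)` -/
theorem hY (p : ℕ) (P : Subgroup H) : P ≤ normalizer (YY p P : Set H) := largest_normal p P

variable {S : Sylow p H} {Z C Q P : Subgroup H} [Finite H] [Fact p.Prime] (h : PHyp p S Z C Q P)

theorem YY_comm (v w : ↥(YY p P)) : v * w = w * v := Subtype.ext (ea_comm (largest_ea p P) v.2 w.2)

theorem YY_pow (v : ↥(YY p P)) : v ^ p = 1 := Subtype.ext ((largest_ea p P).2 v v.2)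

/-- the Sylow subgroup of the quotient -/
noncomputable def Tb (hSP : (S : Subgroup H) ≤ P) : Sylow p ↥(XX (hY p P)) :=
  (S.subtype hSP).mapSurjective (pr_surj (hY p P))

theorem coe_Tb (hSP : (S : Subgroup H) ≤ P) : (Tb hSP : Subgroup ↥(XX (hY p P))) = im (hY p P) (S : Subgroup H) := rfl

include h

theorem core (N : Subgroup ↥(XX (hY p P))) (hN : N.Normal) (hNp : IsPGroup p ↥N) : N = ⊥ := by
  have h1 := (pRed_largest p P).2.2.2 (pre (hY p P) N) (pre_le _ _) (pre_normal _ hN) (by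
    intro b hb
    obtain ⟨hbP, hbN⟩ := (mem_pre (hY p P)).1 hb
    obtain ⟨k, hk⟩ := hNp ⟨_, hbN⟩
    refine ⟨k, ?_⟩
    have h2 : pr (hY p P) (⟨b, hbP⟩ ^ p ^ k) = 1 := by
      rw [map_pow]
      exact congrArg Subtype.val hk
    exact (pr_eq_one _).1 h2)
  rw [← im_pre (hY p P) N, im_eq_bot _ (pre_le _ _), commutator_comm, commutator_eq_bot_iff_le_centralizer]
  exact h1

theorem exists_M : ∃ M : Subgroup H, (S : Subgroup H) ≤ M ∧ M < P ∧ P ⊓ C ≤ M ∧
    ∀ L : Subgroup H, (S : Subgroup H) ≤ L → L < P → L ≤ M := by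
  obtain ⟨M, h1, h2, h3⟩ := exists_max h.hSP h.hPmin
  exact ⟨M, h1, h2, h3 _ (le_inf h.hSP h.S_le) h.inf_lt, h3⟩

theorem cent_le_C : P ⊓ centralizer (YY p P : Set H) ≤ P ⊓ C := inf_le_inf_left _ h.cent_Y_le

theorem map_M_ne {M : Subgroup H} (hMP : M < P) (hCM : P ⊓ C ≤ M) : im (hY p P) M ≠ ⊤ := by
  intro h1
  have h2 := congrArg (pre (hY p P)) h1
  rw [pre_im_of_le _ hMP.le ((cent_le_C h).trans hCM), pre_top] at h2
  exact hMP.ne h2

omit h in
theorem max' (hSP : (S : Subgroup H) ≤ P) {M : Subgroup H} (hM : ∀ L : Subgroup H, (S : Subgroup H) ≤ L → L < P → L ≤ M)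
    (K : Subgroup ↥(XX (hY p P))) (hK : im (hY p P) (S : Subgroup H) ≤ K) : K ≤ im (hY p P) M ∨ K = ⊤ := by
  rw [im_le_iff _ hSP] at hK
  rcases (pre_le (hY p P) K).eq_or_lt with h1 | h1
  · right
    rw [← im_pre (hY p P) K, h1, im_P]
  · left
    rw [← im_pre (hY p P) K]
    exact im_mono _ (hM _ hK h1)

theorem nM {M : Subgroup H} (hCM : P ⊓ C ≤ M) (x : ↥(XX (hY p P)))
    (hx : ∀ v : ↥(YY p P), (∀ t ∈ im (hY p P) (S : Subgroup H), t • v = v) → x • v = v) : x ∈ im (hY p P) M := by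
  obtain ⟨g, rfl⟩ := pr_surj (hY p P) x
  have h1 : (g : H) ∈ C := by
    apply h.cent_Z_le
    rw [mem_centralizer_iff]
    intro z hz
    have h2 := hx ⟨z, h.Z_le_Y hz⟩ ((mem_fx_im (hY p P) h.hSP).2 (h.Z_le hz).2)
    exact ((smul_eq_iff _ g _).1 h2).symm
  exact (mem_im _).2 ⟨g, g.2, hCM ⟨g.2, h1⟩, rfl⟩

theorem im_S_ne : im (hY p P) (S : Subgroup H) ≠ ⊥ := by
  rw [Ne, im_eq_bot _ h.hSP, commutator_comm, commutator_eq_bot_iff_le_centralizer]
  intro h1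
  apply h.not_Q_le
  rw [← h.inf_cent_Y]
  exact le_inf h.Q_le_S (h.Q_le_S.trans h1)

theorem pmin : IsPMinimal p ↥(XX (hY p P)) := by
  obtain ⟨M, hSM, hMP, hCM, hM⟩ := exists_M h
  refine Cfsg.Agent.H273.PMinimal.isPMinimal_of_sylow (Tb h.hSP) (fun hn => ?_) ⟨im (hY p P) M, ⟨⟨?_, ?_⟩, ?_⟩, ?_⟩
  · exact im_S_ne h (core h _ hn (Tb h.hSP).isPGroup')
  · exact map_M_ne h hMP hCM
  · intro K hK
    rcases max' h.hSP hM K ((im_mono _ hSM).trans hK.le) with h1 | h1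
    · exact absurd (hK.trans_le h1) (lt_irrefl _)
    · exact h1
  · exact im_mono _ hSM
  · rintro L ⟨hL, hSL⟩
    rcases max' h.hSP hM L hSL with h1 | h1
    · exact (hL.le_iff_eq (map_M_ne h hMP hCM)).1 h1 |>.symm
    · exact absurd h1 hL.1

/-- **the structure of `P / C_P(V)`** -/
theorem exists_str {A : Subgroup ↥(XX (hY p P))} (hAT : A ≤ im (hY p P) (S : Subgroup H))
    (hoff : Off p ↥(XX (hY p P)) ↥(YY p P) A) (hne : A ≠ ⊥) :
    ∃ (k : ℕ) (E : Fin k → Subgroup ↥(XX (hY p P))),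
      Str p ↥(XX (hY p P)) ↥(YY p P) (im (hY p P) (S : Subgroup H)) E := by
  by_cases h2 : p = 2
  · subst h2
    obtain ⟨M, hSM, hMP, hCM, hM⟩ := exists_M h
    have Hs : FFTop.Sit ↥(XX (hY 2 P)) ↥(YY 2 P) (Tb h.hSP) (im (hY 2 P) M) A :=
      { sq := fun v => by rw [← pow_two]; exact YY_pow v
        faith := faith _
        core := core h
        TM := im_mono _ hSM
        Mne := map_M_ne h hMP hCM
        max := max' h.hSP hM
        nM := nM h hCM
        AT := hAT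
        Acomm := hoff.comm
        Asq := fun a ha => by rw [← pow_two]; exact hoff.pow a ha
        Ane := hne
        Aoff := hoff.off }
    exact FFOff.str_two Hs
  · exact Cfsg.Agent.H263.FF.OddStr.str_odd h2 YY_comm YY_pow (faith _) (pmin h) (core h) (Tb h.hSP) hoff hne

/-! ### the offender -/

section off

variable (hVQ : YY p P ≤ Q)
include hVQ

theorem cj_le_Q {c : H} (hc : c ∈ C) : cj c (YY p P) ≤ Q := by
  have h1 := cj_mono (g := c) hVQ
  rwa [h.cj_Q_of_mem hc] at h1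

theorem cj_le_S {c : H} (hc : c ∈ C) : cj c (YY p P) ≤ (S : Subgroup H) := (cj_le_Q h hVQ hc).trans h.Q_le_S

theorem cj_le_P {c : H} (hc : c ∈ C) : cj c (YY p P) ≤ P := (cj_le_S h hVQ hc).trans h.hSP

theorem Q_norm_cj {c : H} (hc : c ∈ C) : Q ≤ normalizer (cj c (YY p P) : Set H) := by
  have h1 : Q ≤ normalizer (YY p P : Set H) := h.Q_le_P.trans (hY p P)
  have h2 := cj_mono (g := c) h1
  rwa [h.cj_Q_of_mem hc, cj_normalizer] at h2

theorem off_of {c : H} (hc : c ∈ C)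
    (hcard : Nat.card (YY p P) ≤ Nat.card (im (hY p P) (cj c (YY p P))) *
      Nat.card ↥(YY p P ⊓ centralizer (cj c (YY p P) : Set H))) :
    Off p ↥(XX (hY p P)) ↥(YY p P) (im (hY p P) (cj c (YY p P))) where
  comm := by
    intro x hx y hy
    obtain ⟨a, haP, ha, rfl⟩ := (mem_im _).1 hx
    obtain ⟨b, hbP, hb, rfl⟩ := (mem_im _).1 hy
    rw [← map_mul, ← map_mul]
    congr 1
    exact Subtype.ext (ea_comm (ea_map (largest_ea p P) _) ha hb)
  pow := by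
    intro x hx
    obtain ⟨a, haP, ha, rfl⟩ := (mem_im _).1 hx
    rw [← map_pow]
    have : (⟨a, haP⟩ : ↥P) ^ p = 1 := Subtype.ext ((ea_map (largest_ea p P) _).2 a ha)
    rw [this, map_one]
  off := by
    rw [card_fx_im _ (cj_le_P h hVQ hc)]
    exact hcard

/-- `|A̅| |C_A(V)| = |V|` -/
theorem card_one {c : H} (hc : c ∈ C) : Nat.card (im (hY p P) (cj c (YY p P))) *
    Nat.card ↥(cj c (YY p P) ⊓ centralizer (YY p P : Set H)) = Nat.card (YY p P) := by
  rw [card_im_mul _ (cj_le_P h hVQ hc), card_cj]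

/-- conjugation by `c` -/
theorem card_two (c : H) : Nat.card ↥(cj c⁻¹ (YY p P) ⊓ centralizer (YY p P : Set H)) =
    Nat.card ↥(YY p P ⊓ centralizer (cj c (YY p P) : Set H)) := by
  rw [← card_cj c, cj_inf, cj_cj_inv, cj_centralizer]

theorem comm_inv {c : H} (hne : ⁅YY p P, cj c (YY p P)⁆ ≠ ⊥) : ⁅YY p P, cj c⁻¹ (YY p P)⁆ ≠ ⊥ := by
  intro h1
  apply hne
  have h2 := congrArg (cj c) h1
  rwa [cj_comm, cj_cj_inv, cj_bot, commutator_comm] at h2

theorem exists_off {c : H} (hc : c ∈ C) (hne : ⁅YY p P, cj c (YY p P)⁆ ≠ ⊥) :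
    ∃ c ∈ C, ⁅YY p P, cj c (YY p P)⁆ ≠ ⊥ ∧
      Off p ↥(XX (hY p P)) ↥(YY p P) (im (hY p P) (cj c (YY p P))) := by
  by_cases h1 : Nat.card (YY p P) ≤ Nat.card (im (hY p P) (cj c (YY p P))) *
      Nat.card ↥(YY p P ⊓ centralizer (cj c (YY p P) : Set H))
  · exact ⟨c, hc, hne, off_of h hVQ hc h1⟩
  · refine ⟨c⁻¹, C.inv_mem hc, comm_inv h hVQ hne, off_of h hVQ (C.inv_mem hc) ?_⟩
    have e1 := card_one h hVQ hc
    have e2 := card_one h hVQ (C.inv_mem hc)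
    rw [card_two h hVQ c] at e2
    have e3 := card_two h hVQ c⁻¹
    rw [inv_inv] at e3
    rw [← e3]
    push Not at h1
    -- `α b ≤ |V|`, `α a = |V|`, `β b = |V|`
    obtain ⟨α, hα⟩ : ∃ α, α = Nat.card (im (hY p P) (cj c (YY p P))) := ⟨_, rfl⟩
    obtain ⟨β, hβ⟩ : ∃ β, β = Nat.card (im (hY p P) (cj c⁻¹ (YY p P))) := ⟨_, rfl⟩
    obtain ⟨a, ha⟩ : ∃ a, a = Nat.card ↥(cj c (YY p P) ⊓ centralizer (YY p P : Set H)) := ⟨_, rfl⟩
    obtain ⟨b, hb⟩ : ∃ b, b = Nat.card ↥(YY p P ⊓ centralizer (cj c (YY p P) : Set H)) := ⟨_, rfl⟩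
    have hb0 : 0 < b := by rw [hb]; exact Nat.card_pos
    rw [← hα, ← ha] at e1
    rw [← hβ, ← hb] at e2
    rw [← hα, ← hb] at h1
    rw [← hβ, ← ha]
    rw [← e2] at h1
    have h3 : α ≤ β := by
      by_contra h4
      push Not at h4
      exact absurd h1 (by nlinarith [Nat.mul_le_mul_right b h4.le])
    rw [← e1]
    exact Nat.mul_le_mul_right a h3

/-- all `V^c` are offenders -/
theorem off_all {k : ℕ} {E : Fin k → Subgroup ↥(XX (hY p P))}
    (hS : Str p ↥(XX (hY p P)) ↥(YY p P) (im (hY p P) (S : Subgroup H)) E) {c : H} (hc : c ∈ C) :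
    Off p ↥(XX (hY p P)) ↥(YY p P) (im (hY p P) (cj c (YY p P))) := by
  by_cases h1 : Nat.card (YY p P) ≤ Nat.card (im (hY p P) (cj c (YY p P))) *
      Nat.card ↥(YY p P ⊓ centralizer (cj c (YY p P) : Set H))
  · exact off_of h hVQ hc h1
  · exfalso
    have e1 := card_one h hVQ hc
    have e2 := card_one h hVQ (C.inv_mem hc)
    rw [card_two h hVQ c] at e2
    have e3 := card_two h hVQ c⁻¹
    rw [inv_inv] at e3
    push Not at h1
    have h5 : Nat.card (YY p P) ≤ Nat.card (im (hY p P) (cj c⁻¹ (YY p P))) *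
      Nat.card ↥(YY p P ⊓ centralizer (cj c⁻¹ (YY p P) : Set H)) → False := by
      intro h6
      have h7 := hS.eq _ (off_of h hVQ (C.inv_mem hc) h6)
      rw [card_fx_im _ (cj_le_P h hVQ (C.inv_mem hc)), ← e3] at h7
      have h8 : Nat.card (im (hY p P) (cj c (YY p P))) = Nat.card (im (hY p P) (cj c⁻¹ (YY p P))) :=
        Nat.eq_of_mul_eq_mul_right Nat.card_pos (e1.trans h7)
      rw [h8, e2] at h1
      exact lt_irrefl _ h1
    apply h5
    rw [← e3]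
    obtain ⟨α, hα⟩ : ∃ α, α = Nat.card (im (hY p P) (cj c (YY p P))) := ⟨_, rfl⟩
    obtain ⟨β, hβ⟩ : ∃ β, β = Nat.card (im (hY p P) (cj c⁻¹ (YY p P))) := ⟨_, rfl⟩
    obtain ⟨a, ha⟩ : ∃ a, a = Nat.card ↥(cj c (YY p P) ⊓ centralizer (YY p P : Set H)) := ⟨_, rfl⟩
    obtain ⟨b, hb⟩ : ∃ b, b = Nat.card ↥(YY p P ⊓ centralizer (cj c (YY p P) : Set H)) := ⟨_, rfl⟩
    rw [← hα, ← ha] at e1
    rw [← hβ, ← hb] at e2
    rw [← hα, ← hb] at h1
    rw [← hβ, ← ha]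
    rw [← e2] at h1
    have h3 : α ≤ β := by
      by_contra h4
      push Not at h4
      exact absurd h1 (by nlinarith [Nat.mul_le_mul_right b h4.le])
    rw [← e1]
    exact Nat.mul_le_mul_right a h3

end off

end Cfsg.Agent.H250.P1
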